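import Groth.Agent.ClopenRep7.Sheaf
import Groth.Agent.S2810

/-!
Over an affine open of the base, clopens of `S' ×_S T` for a finite flat `S' ⟶ S` of finite presentation
are classified by the étale scheme of idempotents.
-/

set_option autoImplicit false

universe u
open CategoryTheory CategoryTheory.Limits AlgebraicGeometry TensorProduct

namespace Groth.Agent.ClopenRep7

variable {S' S : Scheme.{u}} {g : S' ⟶ S} {A B : Type u} [CommRing A] [CommRing B] [Algebra A B]
  (ιA : Spec (CommRingCat.of A) ⟶ S) {ιB : Spec (CommRingCat.of B) ⟶ S'}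

/-- `Spec` of an algebra. -/
noncomputable abbrev str (A C : Type u) [CommRing A] [CommRing C] [Algebra A C] :
    Spec (CommRingCat.of C) ⟶ Spec (CommRingCat.of A) :=
  Spec.map (CommRingCat.ofHom (algebraMap A C))

theorem isPullback_chart (hB : IsPullback ιB (str A B) g ιA) (C : Type u) [CommRing C] [Algebra A C] :
    IsPullback (Spec.map (CommRingCat.ofHom (Algebra.TensorProduct.includeRight : B →ₐ[A] C ⊗[A] B).toRingHom) ≫ ιB)
      (Spec.map (CommRingCat.ofHom (Algebra.TensorProduct.includeLeftRingHom : C →+* C ⊗[A] B))) g (str A C ≫ ιA) := by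
  refine IsPullback.paste_horiz ?_ hB
  exact (isPullback_SpecMap_of_isPushout _ _ _ _ (CommRingCat.isPushout_tensorProduct A C B)).flip

/-- The fibre product over an affine test scheme. -/
noncomputable def chart (hB : IsPullback ιB (str A B) g ιA) (C : Type u) [CommRing C] [Algebra A C] :
    Spec (CommRingCat.of (C ⊗[A] B)) ≅ pullback g (str A C ≫ ιA) :=
  (isPullback_chart ιA hB C).isoPullback

theorem str_comp {C D : Type u} [CommRing C] [Algebra A C] [CommRing D] [Algebra A D] (φ : C →ₐ[A] D) :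
    Spec.map (CommRingCat.ofHom φ.toRingHom) ≫ str A C ≫ ιA = str A D ≫ ιA := by
  rw [← Category.assoc, str, str, ← Spec.map_comp, ← CommRingCat.ofHom_comp]
  congr 3
  exact φ.comp_algebraMap

theorem chart_natural (hB : IsPullback ιB (str A B) g ιA) {C D : Type u} [CommRing C] [Algebra A C]
    [CommRing D] [Algebra A D] (φ : C →ₐ[A] D) :
    (chart ιA hB D).hom ≫ pm g (Spec.map (CommRingCat.ofHom φ.toRingHom)) (str_comp ιA φ) =
      Spec.map (CommRingCat.ofHom (Algebra.TensorProduct.map φ (AlgHom.id A B)).toRingHom) ≫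
        (chart ιA hB C).hom := by
  apply pullback.hom_ext
  · simp only [chart, Category.assoc, pm_fst, IsPullback.isoPullback_hom_fst]
    rw [← Category.assoc, ← Spec.map_comp, ← CommRingCat.ofHom_comp]
    congr 4
    refine RingHom.ext fun b => ?_
    simp
  · simp only [chart, Category.assoc, pm_snd, IsPullback.isoPullback_hom_snd,
      IsPullback.isoPullback_hom_snd_assoc]
    rw [← Spec.map_comp, ← Spec.map_comp, ← CommRingCat.ofHom_comp, ← CommRingCat.ofHom_comp]
    congr 2

/-- The clopen of an idempotent. -/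
noncomputable def elem (hB : IsPullback ιB (str A B) g ιA) (C : Type u) [CommRing C] [Algebra A C]
    (e : C ⊗[A] B) (he : IsIdempotentElem e) : Obj g (Spec (CommRingCat.of C)) :=
  ⟨str A C ≫ ιA, (chart ιA hB C).inv ⁻¹' (PrimeSpectrum.basicOpen e : Set (PrimeSpectrum (C ⊗[A] B))),
    (PrimeSpectrum.isClopen_iff.2 ⟨e, he, rfl⟩).preimage (Scheme.Hom.continuous _)⟩

theorem chart_preimage (hB : IsPullback ιB (str A B) g ιA) (C : Type u) [CommRing C] [Algebra A C]
    (V : Set ↥(Spec (CommRingCat.of (C ⊗[A] B)))) :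
    (chart ιA hB C).hom ⁻¹' ((chart ιA hB C).inv ⁻¹' V) = V := by
  ext z
  simp [← Scheme.Hom.comp_apply]

theorem chart_preimage' (hB : IsPullback ιB (str A B) g ιA) (C : Type u) [CommRing C] [Algebra A C]
    (V : Set ↥(pullback g (str A C ≫ ιA))) :
    (chart ιA hB C).inv ⁻¹' ((chart ιA hB C).hom ⁻¹' V) = V := by
  ext z
  simp [← Scheme.Hom.comp_apply]

theorem elem_inj (hB : IsPullback ιB (str A B) g ιA) {C : Type u} [CommRing C] [Algebra A C]
    {e e' : C ⊗[A] B} (he : IsIdempotentElem e) (he' : IsIdempotentElem e')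
    (h : elem ιA hB C e he = elem ιA hB C e' he') : e = e' := by
  unfold elem at h
  simp only [Obj.mk.injEq, heq_eq_eq, true_and] at h
  have h1 := congrArg ((chart ιA hB C).hom ⁻¹' ·) h
  simp only [chart_preimage] at h1
  exact PrimeSpectrum.basicOpen_injOn_isIdempotentElem he he' (SetLike.coe_injective h1)

theorem exists_elem (hB : IsPullback ιB (str A B) g ιA) {C : Type u} [CommRing C] [Algebra A C]
    (p : Obj g (Spec (CommRingCat.of C))) (hp : p.hom = str A C ≫ ιA) :
    ∃ e he, elem ιA hB C e he = p := by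
  obtain ⟨h, V, hV⟩ := p
  dsimp only at hp
  subst hp
  obtain ⟨e, he, heV⟩ := PrimeSpectrum.isClopen_iff.1 (hV.preimage (chart ιA hB C).hom.continuous)
  refine ⟨e, he, ?_⟩
  unfold elem
  congr 1
  exact (congrArg ((chart ιA hB C).inv ⁻¹' ·) heV.symm).trans (chart_preimage' ιA hB C V)

theorem pull_elem (hB : IsPullback ιB (str A B) g ιA) {C D : Type u} [CommRing C] [Algebra A C]
    [CommRing D] [Algebra A D] (φ : C →ₐ[A] D) (e : C ⊗[A] B) (he : IsIdempotentElem e) :
    pull (Spec.map (CommRingCat.ofHom φ.toRingHom)) (elem ιA hB C e he) =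
      elem ιA hB D (Algebra.TensorProduct.map φ (AlgHom.id A B) e) (he.map _) := by
  refine (pull_eq_iff _ _ _).2 ⟨str_comp ιA φ, ?_⟩
  have key : ∀ z, (chart ιA hB C).inv (pm g (Spec.map (CommRingCat.ofHom φ.toRingHom)) (str_comp ιA φ) z) =
      Spec.map (CommRingCat.ofHom (Algebra.TensorProduct.map φ (AlgHom.id A B)).toRingHom) ((chart ιA hB D).inv z) := by
    intro z
    rw [← Scheme.Hom.comp_apply, ← Scheme.Hom.comp_apply]
    refine congrArg (fun f : pullback g _ ⟶ Spec (CommRingCat.of (C ⊗[A] B)) => f z) ?_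
    rw [Iso.comp_inv_eq, Category.assoc, ← chart_natural, Iso.inv_hom_id_assoc]
  ext z
  show (chart ιA hB D).inv z ∈ (PrimeSpectrum.basicOpen (Algebra.TensorProduct.map φ (AlgHom.id A B) e) : Set (PrimeSpectrum (D ⊗[A] B))) ↔
    (chart ιA hB C).inv (pm g (Spec.map (CommRingCat.ofHom φ.toRingHom)) (str_comp ιA φ) z) ∈ (PrimeSpectrum.basicOpen e : Set (PrimeSpectrum (C ⊗[A] B)))
  rw [key]
  rfl

/-- Points of the scheme of idempotents with values in an affine scheme. -/
theorem existsUnique_lift_affine (hB : IsPullback ιB (str A B) g ιA) [Mono ιA]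
    {E : Type u} [CommRing E] [Algebra A E] (e₀ : E ⊗[A] B) (he₀ : IsIdempotentElem e₀)
    (huniv : ∀ (C : Type u) [CommRing C] [Algebra A C] (e : C ⊗[A] B), IsIdempotentElem e →
      ∃! φ : E →ₐ[A] C, Algebra.TensorProduct.map φ (AlgHom.id A B) e₀ = e)
    (C : CommRingCat.{u}) (t : Spec C ⟶ Spec (CommRingCat.of A)) (p : Obj g (Spec C)) (hp : p.hom = t ≫ ιA) :
    ∃! a : Spec C ⟶ Spec (CommRingCat.of E), pull a (elem ιA hB E e₀ he₀) = p := by
  letI : Algebra A C := (Spec.preimage t).hom.toAlgebra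
  have ht : str A C = t := Spec.map_preimage t
  obtain ⟨e, he, hpe⟩ := exists_elem ιA hB (C := C) p (by rw [ht]; exact hp)
  obtain ⟨φ, hφ, hu⟩ := huniv C e he
  refine ⟨Spec.map (CommRingCat.ofHom φ.toRingHom), ?_, fun a ha => ?_⟩
  · refine (pull_elem ιA hB φ e₀ he₀).trans ?_
    subst hpe
    congr 1
  · have h1 : a ≫ str A E = str A C := by
      rw [← cancel_mono ιA, Category.assoc, ht, ← hp]
      exact congrArg Obj.hom ha
    let ψ : E →ₐ[A] C := ⟨(Spec.preimage a).hom, fun r => by
      have h2 := congrArg (fun f => (Spec.preimage f).hom r) h1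
      simpa [str] using h2⟩
    have ha' : a = Spec.map (CommRingCat.ofHom ψ.toRingHom) := (Spec.map_preimage a).symm
    rw [ha', ← hu ψ]
    rw [ha', pull_elem] at ha
    exact elem_inj ιA hB _ he (ha.trans hpe.symm)

end Groth.Agent.ClopenRep7
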