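import Groth.Agent.ClopenRep7.Affine
import Mathlib.AlgebraicGeometry.Sites.Representability

/-!
For `g : S' ⟶ S` finite, flat, of finite presentation, the functor of clopens of `S' ×_S T` is represented
by an étale separated scheme over `S`.
-/

set_option autoImplicit false

universe u
open CategoryTheory CategoryTheory.Limits AlgebraicGeometry TensorProduct Opposite

namespace Groth.Agent.ClopenRep7

variable {S' S : Scheme.{u}} (g : S' ⟶ S)

/-- A chart of the scheme of idempotents. -/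
theorem exists_chart [IsFinite g] [Flat g] [LocallyOfFinitePresentation g] (U : S.affineOpens) :
    ∃ (E : Scheme.{u}) (t : E ⟶ Spec Γ(S, U.1)) (el : Obj g E), Etale t ∧ IsAffineHom t ∧
      el.hom = t ≫ U.2.fromSpec ∧ ∀ (T : Scheme.{u}) (t' : T ⟶ Spec Γ(S, U.1)) (p : Obj g T),
        p.hom = t' ≫ U.2.fromSpec → ∃! a : T ⟶ E, pull a el = p := by
  let ιA := U.2.fromSpec
  let P : Scheme.{u} := pullback g ιA
  haveI : IsAffine P := isAffine_of_isAffineHom (pullback.snd g ιA)
  let A := Γ(S, U.1)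
  let B := Γ(P, ⊤)
  let φ : A ⟶ B := Spec.preimage (P.isoSpec.inv ≫ pullback.snd g ιA)
  have hφ : Spec.map φ = P.isoSpec.inv ≫ pullback.snd g ιA := Spec.map_preimage _
  have h1 : IsFinite (Spec.map φ) := by rw [hφ]; infer_instance
  have h2 : Flat (Spec.map φ) := by rw [hφ]; infer_instance
  have h3 : LocallyOfFinitePresentation (Spec.map φ) := by rw [hφ]; infer_instance
  rw [IsFinite.SpecMap_iff] at h1
  rw [Flat.SpecMap_iff] at h2
  rw [LocallyOfFinitePresentation.SpecMap_iff] at h3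
  letI : Algebra A B := φ.hom.toAlgebra
  haveI : Module.Finite A B := h1
  haveI : Module.Flat A B := h2
  haveI : Algebra.FinitePresentation A B := h3
  haveI : Module.FinitePresentation A B := Module.FinitePresentation.of_finite_of_finitePresentation A B
  haveI : Module.Projective A B := Module.Flat.projective_of_finitePresentation
  obtain ⟨E, _, _, e₀, het, he₀, huniv⟩ := S2810.result A B
  have hstr : str (A : Type u) (B : Type u) = P.isoSpec.inv ≫ pullback.snd g ιA := hφ
  have hB : IsPullback (P.isoSpec.inv ≫ pullback.fst g ιA) (str (A : Type u) (B : Type u)) g ιA :=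
    (IsPullback.of_hasPullback g ιA).of_iso P.isoSpec (Iso.refl _) (Iso.refl _) (Iso.refl _)
      (by simp) (by rw [hstr]; simp) (by simp) (by simp)
  refine ⟨Spec (CommRingCat.of E), str A E, elem ιA hB E e₀ he₀, ?_, inferInstance, rfl, ?_⟩
  · exact (HasRingHomProperty.Spec_iff (P := @Etale)).2 (RingHom.etale_algebraMap.2 het)
  intro T t' p hp
  have haff : ∀ (C : CommRingCat.{u}) (c : Spec C ⟶ T),
      ∃! a : Spec C ⟶ Spec (CommRingCat.of E), pull a (elem ιA hB E e₀ he₀) = pull c p := fun C c =>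
    existsUnique_lift_affine ιA hB e₀ he₀ huniv C (c ≫ t') (pull c p)
      ((congrArg (c ≫ ·) hp).trans (Category.assoc _ _ _).symm)
  have huniq : ∀ (W : Scheme.{u}) (c : W ⟶ T) (a a' : W ⟶ Spec (CommRingCat.of E)),
      pull a (elem ιA hB E e₀ he₀) = pull c p → pull a' (elem ιA hB E e₀ he₀) = pull c p → a = a' := by
    intro W c a a' ha ha'
    refine W.affineOpenCover.openCover.hom_ext _ _ fun i => ?_
    refine (haff _ (W.affineOpenCover.f i ≫ c)).unique ?_ ?_
    · exact (pull_pull _ _ _).symm.trans ((congrArg _ ha).trans (pull_pull _ _ _))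
    · exact (pull_pull _ _ _).symm.trans ((congrArg _ ha').trans (pull_pull _ _ _))
  let 𝒰 := T.affineOpenCover
  choose a ha _ using fun i => haff (𝒰.X i) (𝒰.f i)
  have hc : ∀ i j, pullback.fst (𝒰.openCover.f i) (𝒰.openCover.f j) ≫ a i =
      pullback.snd (𝒰.openCover.f i) (𝒰.openCover.f j) ≫ a j := fun i j => by
    refine huniq _ (pullback.fst (𝒰.openCover.f i) (𝒰.openCover.f j) ≫ 𝒰.openCover.f i) _ _ ?_ ?_
    · rw [← pull_pull]
      exact (congrArg _ (ha i)).trans (pull_pull _ _ _)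
    · rw [← pull_pull, pullback.condition]
      exact (congrArg _ (ha j)).trans (pull_pull _ _ _)
  refine ⟨𝒰.openCover.glueMorphisms a hc, eq_of_cover 𝒰.openCover _ _ fun i => ?_, fun a' ha' => ?_⟩
  · rw [pull_pull, Scheme.Cover.ι_glueMorphisms]
    exact ha i
  · refine 𝒰.openCover.hom_ext _ _ fun i => ?_
    rw [Scheme.Cover.ι_glueMorphisms]
    refine huniq _ (𝒰.f i) _ _ ?_ (ha i)
    exact (pull_pull _ _ _).symm.trans (congrArg _ ha')

/-- The functor of clopens is represented by an étale affine `S`-scheme. -/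
theorem exists_representing [IsFinite g] [Flat g] [LocallyOfFinitePresentation g] :
    ∃ (G : Scheme.{u}) (el : Obj g G), Etale el.hom ∧ IsAffineHom el.hom ∧
      ∀ (T : Scheme.{u}) (p : Obj g T), ∃! a : T ⟶ G, pull a el = p := by
  choose E t el het haff hel huniv using exists_chart g
  let F : Sheaf Scheme.zariskiTopology.{u} (Type u) :=
    ⟨pre g, (isSheaf_iff_isSheaf_of_type _ _).2 isSheaf⟩
  let fam : ∀ U : S.affineOpens, yoneda.obj (E U) ⟶ F.1 := fun U => yonedaEquiv.symm (el U)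
  have hfam : ∀ U {T : Scheme.{u}} (c : T ⟶ E U), (fam U).app (op T) c = pull c (el U) := fun U {T} c => rfl
  have hlift : ∀ (U : S.affineOpens) {T : Scheme.{u}} (p : Obj g T),
      ∃ a : ((p.hom ⁻¹ᵁ U.1 : T.Opens) : Scheme.{u}) ⟶ E U, pull a (el U) = pull (p.hom ⁻¹ᵁ U.1).ι p := by
    intro U T p
    have hr : Set.range ((p.hom ⁻¹ᵁ U.1).ι ≫ p.hom) ⊆ Set.range U.2.fromSpec := by
      rw [IsAffineOpen.range_fromSpec]
      rintro _ ⟨z, rfl⟩
      rw [Scheme.Hom.comp_apply]
      exact z.2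
    obtain ⟨a, ha, -⟩ := huniv U _ (IsOpenImmersion.lift U.2.fromSpec _ hr) (pull (p.hom ⁻¹ᵁ U.1).ι p)
      (IsOpenImmersion.lift_fac _ _ _).symm
    exact ⟨a, ha⟩
  have hmono : ∀ (U : S.affineOpens) {T : Scheme.{u}} (c c' : T ⟶ E U),
      pull c (el U) = pull c' (el U) → c = c' := fun U T c c' h =>
    (huniv U T (c' ≫ t U) (pull c' (el U)) ((congrArg (c' ≫ ·) (hel U)).trans (Category.assoc _ _ _).symm)).unique h rfl
  have hopen : ∀ U, IsOpenImmersion.presheaf (fam U) := fun U => by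
    refine MorphismProperty.relative.of_exists fun T y => ?_
    let p : Obj g T := yonedaEquiv y
    have hy : ∀ {T' : Scheme.{u}} (a : T' ⟶ T), y.app (op T') a = pull a p := fun {T'} a => by
      conv_lhs => rw [← Equiv.symm_apply_apply yonedaEquiv y]
      rfl
    obtain ⟨b, hb⟩ := hlift U p
    refine ⟨((p.hom ⁻¹ᵁ U.1 : T.Opens) : Scheme.{u}), yoneda.map b, (p.hom ⁻¹ᵁ U.1).ι, ?_, inferInstance⟩
    refine IsPullback.of_forall_isPullback_app fun ⟨T'⟩ => ?_
    rw [CategoryTheory.Limits.Types.isPullback_iff]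
    refine ⟨?_, fun c c' h => (cancel_mono (p.hom ⁻¹ᵁ U.1).ι).1 h.2, fun (c : T' ⟶ E U) (a : T' ⟶ T) h => ?_⟩
    · ext c
      show (fam U).app (op T') (c ≫ b) = y.app (op T') (c ≫ (p.hom ⁻¹ᵁ U.1).ι)
      rw [hfam, hy, ← pull_pull, ← pull_pull, hb]
    · rw [hfam, hy] at h
      have h1 : c ≫ t U ≫ U.2.fromSpec = a ≫ p.hom := (congrArg (c ≫ ·) (hel U).symm).trans (congrArg Obj.hom h)
      have hr : Set.range a ⊆ Set.range (p.hom ⁻¹ᵁ U.1).ι := by
        rw [Scheme.Opens.range_ι]
        rintro _ ⟨z, rfl⟩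
        show p.hom (a z) ∈ U.1
        rw [← Scheme.Hom.comp_apply, ← h1, ← Category.assoc, Scheme.Hom.comp_apply]
        exact U.2.range_fromSpec.le ⟨_, rfl⟩
      let l := IsOpenImmersion.lift (p.hom ⁻¹ᵁ U.1).ι a hr
      have hl : l ≫ (p.hom ⁻¹ᵁ U.1).ι = a := IsOpenImmersion.lift_fac _ _ _
      refine ⟨l, ?_, hl⟩
      show l ≫ b = c
      refine hmono U _ _ ?_
      rw [← pull_pull, hb, pull_pull, hl, h]
  haveI : Presheaf.IsLocallySurjective Scheme.zariskiTopology (Sigma.desc fam) := by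
    refine ⟨fun {T} s => ?_⟩
    let 𝒱 : Scheme.OpenCover.{u} T := T.openCoverOfIsOpenCover (fun U : S.affineOpens => (s : Obj g T).hom ⁻¹ᵁ U.1)
      (TopologicalSpace.IsOpenCover.mk (by
        rw [← Scheme.Hom.preimage_iSup, iSup_affineOpens_eq_top S, Scheme.Hom.preimage_top]))
    refine GrothendieckTopology.superset_covering _ ?_ 𝒱.mem_grothendieckTopology
    rintro T' k ⟨_, l, m, ⟨U⟩, rfl⟩
    refine Sieve.downward_closed _ ?_ l
    obtain ⟨b, hb⟩ := hlift U (s : Obj g T)
    refine ⟨(Sigma.ι (fun U => yoneda.obj (E U)) U).app (op _) b, ?_⟩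
    show ((Sigma.ι (fun U => yoneda.obj (E U)) U ≫ Sigma.desc fam).app (op _)) b = _
    rw [Sigma.ι_desc]
    show (fam U).app (op _) b = (pre g).map ((s : Obj g T).hom ⁻¹ᵁ U.1).ι.op s
    exact (hfam U b).trans hb
  let R := Scheme.LocalRepresentability.representableBy hopen
  let G : Scheme.{u} := (Scheme.LocalRepresentability.glueData hopen).glued
  let e : ∀ {T : Scheme.{u}}, (T ⟶ G) ≃ Obj g T := fun {T} => R.homEquiv
  have he : ∀ {T : Scheme.{u}} (a : T ⟶ G), e a = pull a (e (𝟙 G)) := fun a => by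
    simpa using! R.homEquiv_comp a (𝟙 G)
  let el₀ : Obj g G := e (𝟙 G)
  have hG : ∀ (T : Scheme.{u}) (p : Obj g T), ∃! a : T ⟶ G, pull a el₀ = p := fun T p =>
    ⟨e.symm p, (he _).symm.trans (e.apply_symm_apply p), fun a ha => e.injective (by
      rw [e.apply_symm_apply]; exact (he a).trans ha)⟩
  -- the charts
  have hpb : ∀ U : S.affineOpens, ∃ τ : E U ⟶ G, IsPullback τ (t U) el₀.hom U.2.fromSpec := by
    intro U
    obtain ⟨τ, hτ, -⟩ := hG _ (el U)
    have hsq : τ ≫ el₀.hom = t U ≫ U.2.fromSpec := (congrArg Obj.hom hτ).trans (hel U)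
    obtain ⟨a, ha, -⟩ := huniv U _ (pullback.snd el₀.hom U.2.fromSpec)
      (pull (pullback.fst el₀.hom U.2.fromSpec) el₀) pullback.condition
    let b : E U ⟶ pullback el₀.hom U.2.fromSpec := pullback.lift τ (t U) hsq
    have h1 : a ≫ τ = pullback.fst el₀.hom U.2.fromSpec :=
      (hG _ (pull (pullback.fst el₀.hom U.2.fromSpec) el₀)).unique (by rw [← pull_pull, hτ, ha]) rfl
    have h2 : a ≫ t U = pullback.snd el₀.hom U.2.fromSpec := by
      rw [← cancel_mono U.2.fromSpec, Category.assoc, ← hel U, ← pullback.condition]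
      exact congrArg Obj.hom ha
    have h3 : b ≫ a = 𝟙 _ := hmono U _ _ (by
      rw [← pull_pull, ha, pull_pull, pullback.lift_fst, hτ, pull_id])
    have h4 : a ≫ b = 𝟙 _ := by
      apply pullback.hom_ext
      · rw [Category.assoc, pullback.lift_fst, h1, Category.id_comp]
      · rw [Category.assoc, pullback.lift_snd, h2, Category.id_comp]
    exact ⟨τ, (IsPullback.of_hasPullback el₀.hom U.2.fromSpec).of_iso ⟨a, b, h4, h3⟩ (Iso.refl _) (Iso.refl _)
      (Iso.refl _) (by simp [h1]) (by simp [h2]) (by simp) (by simp)⟩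
  have hloc : ∀ (P : MorphismProperty Scheme.{u}) [IsZariskiLocalAtTarget P], (∀ U, P (t U)) → P el₀.hom := by
    intro P _ hP
    refine (IsZariskiLocalAtTarget.iff_of_iSup_eq_top (fun U : S.affineOpens => U.2.fromSpec.opensRange)
      (by simp only [IsAffineOpen.opensRange_fromSpec]; exact iSup_affineOpens_eq_top S)).2 fun U => ?_
    obtain ⟨τ, hτ⟩ := hpb U
    rw [P.arrow_mk_iso_iff (morphismRestrictOpensRange el₀.hom U.2.fromSpec),
      ← hτ.isoPullback_inv_snd, MorphismProperty.cancel_left_of_respectsIso P]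
    exact hP U
  exact ⟨G, el₀, hloc @Etale het, hloc @IsAffineHom haff, hG⟩

end Groth.Agent.ClopenRep7
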