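import Mathlib

/-!
The functor sending `h : T ⟶ S` to the set of clopen subsets of `S' ×_S T` is a Zariski sheaf.
-/

set_option autoImplicit false

universe u
open CategoryTheory CategoryTheory.Limits AlgebraicGeometry Opposite

namespace Groth.Agent.ClopenRep7

variable {S' S : Scheme.{u}} (g : S' ⟶ S)

/-- The map of fibre products induced by a map of test schemes. -/
noncomputable def pm {T T' : Scheme.{u}} (a : T' ⟶ T) {h : T ⟶ S} {h' : T' ⟶ S} (w : a ≫ h = h') :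
    pullback g h' ⟶ pullback g h :=
  pullback.map g h' g h (𝟙 _) a (𝟙 _) (by simp) (by simp [w])

variable {g}

@[reassoc (attr := simp)]
theorem pm_fst {T T' : Scheme.{u}} (a : T' ⟶ T) {h : T ⟶ S} {h' : T' ⟶ S} (w : a ≫ h = h') :
    pm g a w ≫ pullback.fst g h = pullback.fst g h' :=
  (pullback.lift_fst _ _ _).trans (Category.comp_id _)

@[reassoc (attr := simp)]
theorem pm_snd {T T' : Scheme.{u}} (a : T' ⟶ T) {h : T ⟶ S} {h' : T' ⟶ S} (w : a ≫ h = h') :
    pm g a w ≫ pullback.snd g h = pullback.snd g h' ≫ a :=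
  pullback.lift_snd _ _ _

theorem pm_id {T : Scheme.{u}} {h : T ⟶ S} (w : 𝟙 T ≫ h = h) : pm g (𝟙 T) w = 𝟙 _ := by
  apply pullback.hom_ext <;> simp

theorem pm_comp {T T' T'' : Scheme.{u}} (b : T'' ⟶ T') (a : T' ⟶ T) {h : T ⟶ S} {h' : T' ⟶ S} {h'' : T'' ⟶ S}
    (w : a ≫ h = h') (w' : b ≫ h' = h'') :
    pm g b w' ≫ pm g a w = pm g (b ≫ a) (by rw [Category.assoc, w, w']) := by
  apply pullback.hom_ext <;> simp

theorem pm_apply {T T' T'' : Scheme.{u}} (b : T'' ⟶ T') (a : T' ⟶ T) {h : T ⟶ S} {h' : T' ⟶ S} {h'' : T'' ⟶ S}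
    (w : a ≫ h = h') (w' : b ≫ h' = h'') (z : (pullback g h'' : Scheme.{u})) :
    pm g a w (pm g b w' z) = pm g (b ≫ a) (by rw [Category.assoc, w, w']) z := by
  rw [← Scheme.Hom.comp_apply, pm_comp]

theorem pm_congr {T T' : Scheme.{u}} {a a' : T' ⟶ T} (e : a = a') {h : T ⟶ S} {h' : T' ⟶ S} (w : a ≫ h = h')
    (w' : a' ≫ h = h') : pm g a w = pm g a' w' := by subst e; rfl

theorem snd_pm_apply {T T' : Scheme.{u}} (a : T' ⟶ T) {h : T ⟶ S} {h' : T' ⟶ S} (w : a ≫ h = h')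
    (z : (pullback g h' : Scheme.{u})) : pullback.snd g h (pm g a w z) = a (pullback.snd g h' z) := by
  rw [← Scheme.Hom.comp_apply, pm_snd, Scheme.Hom.comp_apply]

theorem isPullback_pm {T T' : Scheme.{u}} (a : T' ⟶ T) {h : T ⟶ S} {h' : T' ⟶ S} (w : a ≫ h = h') :
    IsPullback (pm g a w) (pullback.snd g h') (pullback.snd g h) a := by
  refine IsPullback.of_right (h₁₂ := pullback.fst g h) (h₂₂ := h) (v₁₃ := g) ?_ (pm_snd a w)
    (IsPullback.of_hasPullback g h)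
  rw [pm_fst, w]
  exact IsPullback.of_hasPullback g h'

theorem isOpenImmersion_pm {T T' : Scheme.{u}} (a : T' ⟶ T) [IsOpenImmersion a] {h : T ⟶ S} {h' : T' ⟶ S}
    (w : a ≫ h = h') : IsOpenImmersion (pm g a w) :=
  MorphismProperty.of_isPullback (P := @IsOpenImmersion) (isPullback_pm a w).flip inferInstance

theorem exists_pm_eq {T T' : Scheme.{u}} (a : T' ⟶ T) {h : T ⟶ S} {h' : T' ⟶ S} (w : a ≫ h = h')
    (z : (pullback g h : Scheme.{u})) (t : T') (ht : a t = pullback.snd g h z) :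
    ∃ z' : (pullback g h' : Scheme.{u}), pm g a w z' = z ∧ pullback.snd g h' z' = t := by
  obtain ⟨q, hq1, hq2⟩ := Scheme.Pullback.exists_preimage_pullback (f := pullback.snd g h) (g := a) z t ht.symm
  refine ⟨(isPullback_pm a w).isoPullback.inv q, ?_, ?_⟩
  · rw [← Scheme.Hom.comp_apply, IsPullback.isoPullback_inv_fst, hq1]
  · rw [← Scheme.Hom.comp_apply, IsPullback.isoPullback_inv_snd, hq2]

variable (g) in
/-- A morphism to `S` together with a clopen subset of the fibre product. -/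
@[ext (iff := false)]
structure Obj (T : Scheme.{u}) : Type u where
  /-- the structure morphism -/
  hom : T ⟶ S
  /-- the subset -/
  set : Set ↥(pullback g hom)
  clopen : IsClopen set

/-- Pull back of clopens. -/
noncomputable def pull {T T' : Scheme.{u}} (a : T' ⟶ T) (p : Obj g T) : Obj g T' :=
  ⟨a ≫ p.hom, pm g a rfl ⁻¹' p.set, p.clopen.preimage (Scheme.Hom.continuous _)⟩

theorem pull_eq_iff {T T' : Scheme.{u}} (a : T' ⟶ T) (p : Obj g T) (q : Obj g T') :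
    pull a p = q ↔ ∃ w : a ≫ p.hom = q.hom, q.set = pm g a w ⁻¹' p.set := by
  constructor
  · rintro rfl
    exact ⟨rfl, rfl⟩
  · obtain ⟨h, V, hV⟩ := q
    rintro ⟨w, hw⟩
    dsimp only at w
    subst w
    dsimp only at hw
    simp only [pull]
    congr 1
    exact hw.symm

theorem pull_id {T : Scheme.{u}} (p : Obj g T) : pull (𝟙 T) p = p := by
  refine (pull_eq_iff _ _ _).2 ⟨Category.id_comp _, ?_⟩
  rw [pm_id]
  rfl

theorem pull_pull {T T' T'' : Scheme.{u}} (b : T'' ⟶ T') (a : T' ⟶ T) (p : Obj g T) :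
    pull b (pull a p) = pull (b ≫ a) p := by
  symm
  refine (pull_eq_iff _ _ _).2 ⟨Category.assoc b a p.hom, ?_⟩
  ext z
  show pm g a _ (pm g b _ z) ∈ p.set ↔ pm g (b ≫ a) _ z ∈ p.set
  rw [pm_apply]

variable (g) in
/-- The presheaf of clopens. -/
noncomputable def pre : Scheme.{u}ᵒᵖ ⥤ Type u where
  obj T := Obj g T.unop
  map a := ↾fun p => pull a.unop p
  map_id T := ConcreteCategory.hom_ext _ _ fun p => pull_id p
  map_comp a b := ConcreteCategory.hom_ext _ _ fun p => (pull_pull _ _ _).symm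

/-- Clopens glue along open covers. -/
theorem existsUnique_glue {Y : Scheme.{u}} (𝒰 : Scheme.OpenCover.{u} Y) (x : ∀ i, Obj g (𝒰.X i))
    (hx : ∀ i j, pull (pullback.fst (𝒰.f i) (𝒰.f j)) (x i) = pull (pullback.snd (𝒰.f i) (𝒰.f j)) (x j)) :
    ∃! p : Obj g Y, ∀ i, pull (𝒰.f i) p = x i := by
  have hc : ∀ i j, pullback.fst (𝒰.f i) (𝒰.f j) ≫ (x i).hom = pullback.snd (𝒰.f i) (𝒰.f j) ≫ (x j).hom :=
    fun i j => congrArg Obj.hom (hx i j)
  let h : Y ⟶ S := 𝒰.glueMorphisms (fun i => (x i).hom) hc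
  have hg : ∀ i, 𝒰.f i ≫ h = (x i).hom := fun i => 𝒰.ι_glueMorphisms _ hc i
  let π : ∀ i, pullback g (x i).hom ⟶ pullback g h := fun i => pm g (𝒰.f i) (hg i)
  haveI : ∀ i, IsOpenImmersion (π i) := fun i => isOpenImmersion_pm _ _
  have hsurj : ∀ z : (pullback g h : Scheme.{u}), ∃ i z', π i z' = z := fun z => by
    obtain ⟨t, ht⟩ := 𝒰.covers (pullback.snd g h z)
    obtain ⟨z', hz', -⟩ := exists_pm_eq (𝒰.f _) (hg _) z t ht
    exact ⟨_, z', hz'⟩
  have hov : ∀ i j z z', π i z = π j z' → (z ∈ (x i).set ↔ z' ∈ (x j).set) := by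
    intro i j z z' hzz
    have h1 : 𝒰.f i (pullback.snd g _ z) = 𝒰.f j (pullback.snd g _ z') := by
      rw [← snd_pm_apply (g := g) (𝒰.f i) (hg i) z, ← snd_pm_apply (g := g) (𝒰.f j) (hg j) z']
      exact congrArg (pullback.snd g h) hzz
    obtain ⟨t, ht1, -⟩ := Scheme.Pullback.exists_preimage_pullback (f := 𝒰.f i) (g := 𝒰.f j)
      (pullback.snd g _ z) (pullback.snd g _ z') h1
    obtain ⟨w, hw⟩ := (pull_eq_iff _ _ _).1 (hx i j)
    obtain ⟨ζ, hζ, -⟩ := exists_pm_eq (pullback.fst (𝒰.f i) (𝒰.f j)) w z t ht1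
    have hζ' : pm g (pullback.snd (𝒰.f i) (𝒰.f j)) rfl ζ = z' := by
      apply (π j).isOpenEmbedding.injective
      show pm g (𝒰.f j) (hg j) (pm g (pullback.snd (𝒰.f i) (𝒰.f j)) rfl ζ) = pm g (𝒰.f j) (hg j) z'
      refine Eq.trans ?_ hzz
      show _ = pm g (𝒰.f i) (hg i) z
      rw [← hζ, pm_apply, pm_apply]
      exact congrArg (fun φ : pullback g _ ⟶ pullback g h => φ ζ) (pm_congr pullback.condition.symm _ _)
    rw [← hζ, ← hζ']
    exact ((Set.ext_iff.1 hw ζ).symm :)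
  let V : Set ↥(pullback g h) := ⋃ i, π i '' (x i).set
  have hmem : ∀ i z, π i z ∈ V ↔ z ∈ (x i).set := by
    intro i z
    refine ⟨fun hz => ?_, fun hz => Set.mem_iUnion.2 ⟨i, z, hz, rfl⟩⟩
    obtain ⟨j, z', hz', e⟩ := Set.mem_iUnion.1 hz
    exact (hov i j z z' e.symm).2 hz'
  have hV : IsClopen V := by
    have hVc : Vᶜ = ⋃ i, π i '' (x i).setᶜ := by
      ext z
      obtain ⟨i, z', rfl⟩ := hsurj z
      rw [Set.mem_compl_iff, hmem]
      refine ⟨fun hz => Set.mem_iUnion.2 ⟨i, z', hz, rfl⟩, fun hz hz' => ?_⟩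
      obtain ⟨j, z'', hz'', e⟩ := Set.mem_iUnion.1 hz
      exact hz'' ((hov i j z' z'' e.symm).1 hz')
    refine ⟨⟨?_⟩, isOpen_iUnion fun i => (π i).isOpenEmbedding.isOpenMap _ (x i).clopen.isOpen⟩
    rw [hVc]
    exact isOpen_iUnion fun i => (π i).isOpenEmbedding.isOpenMap _ (x i).clopen.compl.isOpen
  refine ⟨⟨h, V, hV⟩, fun i => ?_, fun p hp => ?_⟩
  · exact (pull_eq_iff _ _ _).2 ⟨hg i, Set.ext fun z => (hmem i z).symm⟩
  · have hh : p.hom = h := 𝒰.hom_ext _ _ fun i => (congrArg Obj.hom (hp i)).trans (hg i).symm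
    rw [← pull_id p]
    refine (pull_eq_iff _ _ _).2 ⟨(Category.id_comp _).trans hh, Set.ext fun z => ?_⟩
    obtain ⟨i, z', rfl⟩ := hsurj z
    obtain ⟨w, hw⟩ := (pull_eq_iff _ _ _).1 (hp i)
    show π i z' ∈ V ↔ pm g (𝟙 Y) _ (π i z') ∈ p.set
    rw [hmem, hw, Set.mem_preimage, pm_apply]
    congr! 3

theorem eq_of_cover {Y : Scheme.{u}} (𝒰 : Scheme.OpenCover.{u} Y) (p q : Obj g Y)
    (h : ∀ i, pull (𝒰.f i) p = pull (𝒰.f i) q) : p = q := by
  obtain ⟨r, -, hu⟩ := existsUnique_glue 𝒰 (fun i => pull (𝒰.f i) q) fun i j => by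
    rw [pull_pull, pull_pull, pullback.condition]
  exact (hu p h).trans (hu q fun i => rfl).symm

theorem isSheafFor_cover {Y : Scheme.{u}} (𝒰 : Scheme.OpenCover.{u} Y) :
    Presieve.IsSheafFor (pre g) (Presieve.ofArrows 𝒰.X 𝒰.f) := by
  rw [Presieve.isSheafFor_arrows_iff]
  intro x hx
  exact existsUnique_glue 𝒰 x fun i j => hx _ _ _ _ _ pullback.condition

theorem isSheaf : Presieve.IsSheaf Scheme.zariskiTopology (pre g) := by
  intro Y R hR
  obtain ⟨𝒰, h𝒰⟩ := Scheme.mem_grothendieckTopology_iff.1 hR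
  refine Presieve.isSheafFor_subsieve (pre g) (S := Sieve.generate (Presieve.ofArrows 𝒰.X 𝒰.f)) ?_ fun Y' a => ?_
  · rintro Z k ⟨W, l, m, hm, rfl⟩
    exact R.downward_closed (h𝒰 _ _ hm) l
  · rw [← Sieve.pullbackArrows_comm, ← Presieve.isSheafFor_iff_generate, ← Presieve.ofArrows_pullback]
    exact isSheafFor_cover (Precoverage.ZeroHypercover.pullback₂ a 𝒰)

end Groth.Agent.ClopenRep7
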